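import Groth.Agent.PicLift.Glue
import Groth.Agent.Boundary.Local
import Groth.Agent.DimOne.Ample

/-! Invertible modules on a curve lift to an ambient noetherian scheme. -/

noncomputable section

set_option linter.style.haveILetI false
set_option backward.isDefEq.respectTransparency false
set_option backward.isDefEq.respectTransparency.types false

universe u

open CategoryTheory CategoryTheory.Limits AlgebraicGeometry TopologicalSpace

namespace Groth.Agent.PicLift

open Groth.Agent.AModX Groth.Agent.InvX Groth.Agent.Boundary Groth.Agent.DimOne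

variable {X Y : Scheme.{u}}

/-- A frame on disjoint neighbourhoods of the generic points. -/
theorem exists_frame_generic [NoetherianSpace Y] {L : Y.Modules} (hL : PicF.IsInvertible L) :
    ∃ (U : Y.Opens) (e : Γ(L, U)), IsFrame e ∧ ∀ c, IsGen c → c ∈ U := by
  classical
  choose W hyW e he using InvX.exists_frame hL
  let Gn := {c : Y // IsGen c}
  haveI : Finite Gn := (finite_setOf_isGen (X := Y)).to_subtype
  let A : Gn → Y.Opens := fun c => W c.1 ⊓ ⟨(⋃ c' ∈ {c' : Gn | c' ≠ c}, closure ({c'.1} : Set Y))ᶜ,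
      ((Set.toFinite _).isClosed_biUnion fun _ _ => isClosed_closure).isOpen_compl⟩
  have hcA : ∀ c, c.1 ∈ A c := fun c => ⟨hyW _, fun h => by
    obtain ⟨c', hne, hc'⟩ := Set.mem_iUnion₂.1 h
    exact hne (Subtype.ext (c.2 c'.1 (specializes_iff_mem_closure.2 hc')))⟩
  have honly : ∀ (c : Gn) (y : Y), y ∈ A c → ∀ c' : Gn, c'.1 ⤳ y → c' = c := fun c y hy c' hc' => by
    by_contra hne
    exact hy.2 (Set.mem_iUnion₂.2 ⟨c', hne, hc'.mem_closure⟩)
  have hdis : ∀ c c' : Gn, c ≠ c' → A c ⊓ A c' = ⊥ := fun c c' hne =>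
    Opens.ext (Set.eq_empty_iff_forall_notMem.2 fun y hy => by
      obtain ⟨g, hg, hgy⟩ := exists_isGen_specializes y
      exact hne ((honly c y hy.1 ⟨g, hg⟩ hgy).symm.trans (honly c' y hy.2 ⟨g, hg⟩ hgy)))
  obtain ⟨s, hs⟩ := exists_glue_disjoint' (M := L) A hdis fun c => res L (inf_le_left : A c ≤ W c.1) (e c.1)
  refine ⟨⨆ c, A c, s, H23.TrivBasic.isFrame_of_germwise fun x hx => ?_,
    fun c hc => Opens.mem_iSup.2 ⟨⟨c, hc⟩, hcA ⟨c, hc⟩⟩⟩
  obtain ⟨c, hc⟩ := Opens.mem_iSup.1 hx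
  refine ⟨A c, le_iSup A c, hc, ?_⟩
  rw [hs c]
  exact (he c.1).res _

/-- In a noetherian space every point of a closed set has a connected clopen neighbourhood in it. -/
theorem exists_connected_clopen {T : Type u} [TopologicalSpace T] [NoetherianSpace T] {Z : Set T} (hZ : IsClosed Z)
    {p : T} (hp : p ∈ Z) :
    ∃ C : Set T, C ⊆ Z ∧ p ∈ C ∧ IsClosed C ∧ IsConnected C ∧ IsClosed (Z \ C) := by
  have hcl : IsClosed (connectedComponentIn Z p) := by
    rw [connectedComponentIn_eq_image hp]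
    exact hZ.isClosedEmbedding_subtypeVal.isClosedMap _ isClosed_connectedComponent
  refine ⟨connectedComponentIn Z p, connectedComponentIn_subset _ _, mem_connectedComponentIn hp, hcl,
    isConnected_connectedComponentIn_iff.2 hp, ?_⟩
  haveI : NoetherianSpace ↥Z := Topology.IsEmbedding.subtypeVal.isInducing.noetherianSpace
  let q : ↥Z := ⟨p, hp⟩
  have hop : IsClosed ((connectedComponent q)ᶜ) := by
    have hfin : (irreducibleComponents ↥Z).Finite := NoetherianSpace.finite_irreducibleComponents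
    have : (connectedComponent q)ᶜ = ⋃ K ∈ {K ∈ irreducibleComponents ↥Z | Disjoint K (connectedComponent q)}, K := by
      ext z
      simp only [Set.mem_compl_iff, Set.mem_iUnion, Set.mem_sep_iff, exists_prop]
      constructor
      · intro hz
        refine ⟨irreducibleComponent z, ⟨irreducibleComponent_mem_irreducibleComponents z,
          Set.disjoint_left.2 fun w hw hwC => hz ?_⟩, mem_irreducibleComponent⟩
        rw [connectedComponent_eq hwC]
        exact isIrreducible_irreducibleComponent.isConnected.isPreconnected.subset_connectedComponent hw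
          mem_irreducibleComponent
      · rintro ⟨K, ⟨_, hd⟩, hz⟩
        exact Set.disjoint_left.1 hd hz
    rw [this]
    exact (hfin.subset fun K hK => hK.1).isClosed_biUnion fun K hK => isClosed_of_mem_irreducibleComponents K hK.1
  have : Z \ connectedComponentIn Z p = Subtype.val '' (connectedComponent q)ᶜ := by
    rw [connectedComponentIn_eq_image hp, Set.image_compl_eq_range_diff_image Subtype.val_injective,
      Subtype.range_coe]
  rw [this]
  exact hZ.isClosedEmbedding_subtypeVal.isClosedMap _ hop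

/-- A connected closed set meeting `R` inside `O` only in a closed point lies in `O`. -/
theorem subset_of_connected {T : Type u} [TopologicalSpace T] {R C O : Set T} {p : T}
    (hR : ∀ Y : Set T, IsClosed Y → Y.Nonempty → _root_.IsConnected Y →
      (Y ∩ R).Nonempty ∧ _root_.IsConnected (Y ∩ R))
    (hC : IsClosed C) (hCc : _root_.IsConnected C) (hO : IsOpen O) (hpO : p ∈ O) (hpC : p ∈ C)
    (hpR : p ∈ R) (hp : IsClosed ({p} : Set T)) (hCR : C ∩ O ∩ R ⊆ {p}) : C ⊆ O := by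
  have hsing : C ∩ R ⊆ {p} := by
    intro w hw
    by_contra hne
    have hwO : w ∉ O := fun h => hne (hCR ⟨⟨hw.1, h⟩, hw.2⟩)
    obtain ⟨v, hv⟩ := (hR C hC ⟨p, hpC⟩ hCc).2.isPreconnected O ({p} : Set T)ᶜ hO hp.isOpen_compl
      (fun z _ => by
        by_cases hz : z = p
        · exact Or.inl (hz ▸ hpO)
        · exact Or.inr hz)
      ⟨p, ⟨hpC, hpR⟩, hpO⟩ ⟨w, hw, hne⟩
    exact hv.2.2 (hCR ⟨⟨hv.1.1, hv.2.1⟩, hv.1.2⟩)
  intro y hy
  by_contra hyO
  have hcl : IsClosed (C \ O) := hC.sdiff hO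
  have hY : IsClosed (connectedComponentIn (C \ O) y) := by
    rw [connectedComponentIn_eq_image (show y ∈ C \ O from ⟨hy, hyO⟩)]
    exact hcl.isClosedEmbedding_subtypeVal.isClosedMap _ isClosed_connectedComponent
  obtain ⟨w, hwY, hwR⟩ := (hR _ hY ⟨y, mem_connectedComponentIn ⟨hy, hyO⟩⟩
    (isConnected_connectedComponentIn_iff.2 ⟨hy, hyO⟩)).1
  have hw := connectedComponentIn_subset _ _ hwY
  exact hw.2 ((hsing ⟨hw.1, hwR⟩ : w = p) ▸ hpO)

/-- Invertible modules lift from a closed curve meeting every closed connected set connectedly. -/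
theorem exists_lift [IsNoetherian X] (i : Y ⟶ X) [IsClosedImmersion i] (hdim : topologicalKrullDim Y ≤ 1)
    (hR : ∀ S : Set X, IsClosed S → S.Nonempty → _root_.IsConnected S →
      (S ∩ Set.range i).Nonempty ∧ _root_.IsConnected (S ∩ Set.range i))
    {L : Y.Modules} (hL : PicF.IsInvertible L) :
    ∃ N : X.Modules, PicF.IsInvertible N ∧ Nonempty ((Scheme.Modules.pullback i).obj N ≅ L) := by
  classical
  haveI : IsLocallyNoetherian Y := LocallyOfFiniteType.isLocallyNoetherian i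
  haveI : CompactSpace Y := i.isClosedEmbedding.compactSpace
  haveI : IsNoetherian Y := {}
  obtain ⟨U, e₀, he₀, hgen⟩ := exists_frame_generic hL
  have hUD : ∀ y, y ∉ U → ¬ IsGen y := fun y hy hg => hy (hgen y hg)
  have hDfin : ((U : Set Y)ᶜ).Finite := finite_of_forall_not_isGen hdim U.2.isClosed_compl hUD
  have hdisc : DiscreteTopology ↥((U : Set Y)ᶜ) := discreteTopology_of_finite hdim hDfin fun z hz => hUD z hz
  let D := {y : Y // y ∉ U}
  haveI : Finite D := hDfin.to_subtype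
  have key : ∀ d : D, ∃ (W : X.Opens) (C : Set X) (ed : Γ(L, i ⁻¹ᵁ W)) (w a h : Γ(X, W)) (n : ℕ),
      IsFrame ed ∧ i d.1 ∈ C ∧ C ⊆ (W : Set X) ∧ IsClosed C ∧ C ∩ Set.range i ⊆ {i d.1} ∧
      (∀ y, i y ∈ W → y ∉ U → y = d.1) ∧ w = a * h ∧ (∀ z ∈ W, z ∉ C → z ∈ X.basicOpen w) ∧
      ∀ (T : Y.Opens) (hT : T ≤ i ⁻¹ᵁ W) (hTU : T ≤ U),
        resR hT (i.app W h) ^ n • res L hT ed = resR hT (i.app W a) • res L hTU e₀ := by
    intro d
    obtain ⟨V₀, h₀, hV₀, hdV₀, hbas, honly⟩ := exists_local_equation U hdisc d.2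
      ⟨inferInstance, (CurveCohLib.ringKrullDim_stalk_le_topologicalKrullDim d.1).trans hdim⟩
    obtain ⟨W₁, hdW₁, e₁, he₁⟩ := InvX.exists_frame hL d.1
    obtain ⟨O, hO, hOeq⟩ := i.isClosedEmbedding.isInducing.isOpen_iff.1 (V₀ ⊓ W₁).2
    obtain ⟨𝒲, h𝒲, hd𝒲, hle⟩ := exists_isAffineOpen_mem_and_subset (X := X) (x := i d.1) (U := ⟨O, hO⟩)
      (show d.1 ∈ i ⁻¹' O by rw [hOeq]; exact ⟨hdV₀, hdW₁⟩)
    have hleV : i ⁻¹ᵁ 𝒲 ≤ V₀ ⊓ W₁ := fun y hy => by
      have : y ∈ i ⁻¹' O := hle hy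
      rwa [hOeq] at this
    let V : Y.Opens := i ⁻¹ᵁ 𝒲
    have hV : IsAffineOpen V := h𝒲.preimage i
    let h₁ : Γ(Y, V) := resR (hleV.trans inf_le_left) h₀
    have hbas₁ : Y.basicOpen h₁ = V ⊓ U := by
      rw [show Y.basicOpen h₁ = V ⊓ Y.basicOpen h₀ from Y.basicOpen_res h₀ (homOfLE (hleV.trans inf_le_left)).op,
        hbas]
      exact le_antisymm (le_inf inf_le_left (inf_le_right.trans inf_le_left))
        (le_inf inf_le_left (le_inf inf_le_right (inf_le_left.trans (hleV.trans inf_le_left))))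
    let ed : Γ(L, V) := res L (hleV.trans inf_le_right) e₁
    have hed : IsFrame ed := he₁.res _
    have hbU : Y.basicOpen h₁ ≤ U := hbas₁.le.trans inf_le_right
    obtain ⟨g, hg⟩ := he₀.exists_coord hbU (res L (Y.basicOpen_le h₁) ed)
    haveI := hV.isLocalization_basicOpen h₁
    obtain ⟨⟨a₁, ⟨_, n, rfl⟩⟩, ha₁⟩ := IsLocalization.surj (Submonoid.powers h₁) g
    change g * resR (Y.basicOpen_le h₁) (h₁ ^ n) = resR (Y.basicOpen_le h₁) a₁ at ha₁
    have hau : Y.basicOpen h₁ ≤ Y.basicOpen a₁ := by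
      obtain ⟨g', hg'⟩ := hed.exists_coord (Y.basicOpen_le h₁) (res L hbU e₀)
      have hgg : g * g' = 1 := (hed).coord_unique (Y.basicOpen_le h₁) (by rw [one_smul, mul_smul, ← hg', ← hg])
      have hu : IsUnit (resR (Y.basicOpen_le h₁) a₁) := by
        rw [← ha₁, map_pow]
        exact (IsUnit.of_mul_eq_one g' hgg).mul ((isUnit_resR (Y.basicOpen_le h₁) h₁ le_rfl).pow n)
      intro y hy
      have := Y.basicOpen_of_isUnit hu
      rw [show Y.basicOpen (resR (Y.basicOpen_le h₁) a₁) = Y.basicOpen h₁ ⊓ Y.basicOpen a₁ from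
        Y.basicOpen_res a₁ (homOfLE (Y.basicOpen_le h₁)).op] at this
      exact (this.symm.le hy).2
    obtain ⟨a, ha⟩ := i.app_surjective 𝒲 h𝒲 a₁
    obtain ⟨h, hh⟩ := i.app_surjective 𝒲 h𝒲 h₁
    have hbw : i ⁻¹ᵁ X.basicOpen (a * h) = Y.basicOpen h₁ := by
      rw [Scheme.preimage_basicOpen, map_mul, ha, hh, Scheme.basicOpen_mul]
      exact inf_eq_right.2 hau
    have honly' : ∀ y, i y ∈ 𝒲 → y ∉ U → y = d.1 := fun y hy hyU => honly y (hleV hy).1 hyU
    let Z : Set X := (𝒲 : Set X) \ X.basicOpen (a * h)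
    have hZR : Z ∩ Set.range i ⊆ {i d.1} := by
      rintro _ ⟨⟨hy, hyb⟩, y, rfl⟩
      refine congrArg i (honly' y hy fun hyU => hyb ?_)
      exact (hbw.trans hbas₁).ge ⟨hy, hyU⟩
    have hdZ : i d.1 ∈ Z := ⟨hd𝒲, fun hb => d.2 (((hbw.trans hbas₁).le hb).2)⟩
    have hclZ : closure Z ∩ 𝒲 ⊆ Z := by
      rintro z ⟨hz, hzW⟩
      refine ⟨hzW, fun hb => ?_⟩
      obtain ⟨w, hwb, hwZ⟩ := mem_closure_iff.1 hz _ (X.basicOpen (a * h)).2 hb
      exact hwZ.2 hwb
    have hdcl : IsClosed ({i d.1} : Set X) := by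
      rw [← Set.image_singleton]
      exact i.isClosedEmbedding.isClosedMap _ (DimOne.isClosed_singleton hdim (hUD _ d.2))
    obtain ⟨C, hCZ, hdC, hCcl, hCc, hCd⟩ := exists_connected_clopen (isClosed_closure (s := Z)) (subset_closure hdZ)
    have hCW : C ⊆ (𝒲 : Set X) := subset_of_connected hR hCcl hCc 𝒲.2 hd𝒲 hdC ⟨_, rfl⟩ hdcl
      fun w hw => hZR ⟨hclZ ⟨hCZ hw.1.1, hw.1.2⟩, hw.2⟩
    let W : X.Opens := 𝒲 ⊓ ⟨(closure Z \ C)ᶜ, hCd.isOpen_compl⟩
    have hW𝒲 : W ≤ 𝒲 := inf_le_left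
    refine ⟨W, C, res L (i.preimage_mono hW𝒲) ed, resR hW𝒲 (a * h), resR hW𝒲 a, resR hW𝒲 h, n, hed.res _, hdC,
      fun z hz => ⟨hCW hz, fun hz' => hz'.2 hz⟩, hCcl,
      fun z hz => hZR ⟨hclZ ⟨hCZ hz.1, hCW hz.1⟩, hz.2⟩, fun y hy => honly' y hy.1, map_mul _ _ _,
      fun z hz hzC => ?_, fun T hT hTU => ?_⟩
    · rw [show X.basicOpen (resR hW𝒲 (a * h)) = W ⊓ X.basicOpen (a * h) from
        X.basicOpen_res (a * h) (homOfLE hW𝒲).op]
      refine ⟨hz, ?_⟩
      by_contra hb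
      exact hz.2 ⟨subset_closure ⟨hz.1, hb⟩, hzC⟩
    · have hTb : T ≤ Y.basicOpen h₁ := (le_inf (hT.trans (i.preimage_mono hW𝒲)) hTU).trans hbas₁.ge
      rw [← resR_app i hW𝒲, ← resR_app i hW𝒲, resR_resR, resR_resR, ha, hh, res_res]
      have h1 : res L (hT.trans (i.preimage_mono hW𝒲)) ed = resR hTb g • res L hTU e₀ := by
        have h0 := congrArg (res L hTb) hg
        rw [res_smul] at h0
        exact (res_res (Y.basicOpen_le h₁) hTb ed).symm.trans (h0.trans (congrArg _ (res_res hbU hTb e₀)))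
      rw [h1, smul_smul, ← resR_resR (Y.basicOpen_le h₁) hTb a₁, ← ha₁]
      congr 1
      simp only [map_mul, map_pow, resR_resR, h₁]
      rw [mul_comm]
      congr 2
      exact (resR_resR _ _ _).symm
  choose W C ed w a h n hed hdC hCW hCcl hCR honly hw hwu hrel using key
  have hdis : ∀ d d', d ≠ d' → Disjoint (C d) (C d') := by
    intro d d' hne
    rw [Set.disjoint_left]
    intro y hy hy'
    have hcl : IsClosed (C d ∩ C d') := (hCcl d).inter (hCcl d')
    have hY : IsClosed (connectedComponentIn (C d ∩ C d') y) := by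
      rw [connectedComponentIn_eq_image (show y ∈ C d ∩ C d' from ⟨hy, hy'⟩)]
      exact hcl.isClosedEmbedding_subtypeVal.isClosedMap _ isClosed_connectedComponent
    obtain ⟨z, hzY, hzR⟩ := (hR _ hY ⟨y, mem_connectedComponentIn ⟨hy, hy'⟩⟩
      (isConnected_connectedComponentIn_iff.2 ⟨hy, hy'⟩)).1
    have hz := connectedComponentIn_subset _ _ hzY
    exact hne (Subtype.ext (i.isClosedEmbedding.injective
      ((hCR d ⟨hz.1, hzR⟩).symm.trans (hCR d' ⟨hz.2, hzR⟩ : z = i d'.1))))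
  let U' : X.Opens := ⟨(⋃ d, C d)ᶜ, (isClosed_iUnion_of_finite hCcl).isOpen_compl⟩
  let O : D → X.Opens := fun d => W d ⊓
    ⟨(⋃ d' ∈ {d' : D | d' ≠ d}, C d')ᶜ, ((Set.toFinite _).isClosed_biUnion fun d' _ => hCcl d').isOpen_compl⟩
  have hCO : ∀ d, C d ⊆ (O d : Set X) := fun d z hz => ⟨hCW d hz, fun hh => by
    obtain ⟨d', hne, hd'⟩ := Set.mem_iUnion₂.1 hh
    exact Set.disjoint_left.1 (hdis d d' (Ne.symm hne)) hz hd'⟩
  have hpre : i ⁻¹ᵁ U' = U := by
    ext y
    constructor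
    · intro hy
      by_contra hyU
      exact hy (Set.mem_iUnion.2 ⟨⟨y, hyU⟩, hdC ⟨y, hyU⟩⟩)
    · intro hy hh
      obtain ⟨d, hd⟩ := Set.mem_iUnion.1 hh
      exact d.2 (i.isClosedEmbedding.injective (hCR d ⟨hd, y, rfl⟩ : i y = i d.1) ▸ hy)
  have hwu' : ∀ d, O d ⊓ U' ≤ X.basicOpen (w d) := fun d z hz =>
    hwu d z hz.1.1 fun hzC => hz.2 (Set.mem_iUnion.2 ⟨d, hzC⟩)
  have hleW : ∀ d, O d ⊓ U' ≤ W d := fun d => inf_le_left.trans inf_le_left
  have hua : ∀ d, IsUnit (resR (hleW d) (a d)) ∧ IsUnit (resR (hleW d) (h d)) := fun d => by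
    have := isUnit_resR (hleW d) (w d) (hwu' d)
    rw [hw d, map_mul] at this
    exact IsUnit.mul_iff.1 this
  let t : ∀ d, (Γ(X, O d ⊓ U'))ˣ := fun d => (hua d).1.unit * ((hua d).2.unit ^ n d)⁻¹
  refine exists_pullback_iso_of_units i U' O (fun z => ?_) (fun d d' hne z hz => ?_) t
    (res L hpre.le e₀) (he₀.res _) (fun d => res L (i.preimage_mono inf_le_left) (ed d)) (fun d => (hed d).res _)
    fun d => ?_
  · by_cases hz : z ∈ U'
    · exact Or.inl hz
    · obtain ⟨d, hd⟩ := Set.mem_iUnion.1 (not_not.1 hz)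
      exact Or.inr ⟨d, hCO d hd⟩
  · intro hh
    obtain ⟨c, hc⟩ := Set.mem_iUnion.1 hh
    by_cases hcd : c = d
    · exact hz.2.2 (Set.mem_iUnion₂.2 ⟨c, fun h => hne (hcd.symm.trans h), hc⟩)
    · exact hz.1.2 (Set.mem_iUnion₂.2 ⟨c, hcd, hc⟩)
  · rw [res_res, res_res]
    have hT : i ⁻¹ᵁ (O d ⊓ U') ≤ i ⁻¹ᵁ W d := i.preimage_mono (hleW d)
    have h1 := hrel d _ hT ((i.preimage_mono inf_le_right).trans hpre.le)
    rw [resR_app, resR_app] at h1
    have hu : IsUnit (i.app (O d ⊓ U') (resR (hleW d) (h d)) ^ n d) := ((hua d).2.map _).pow _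
    obtain ⟨v, hv⟩ := hu
    rw [← hv] at h1
    refine (eq_inv_smul_iff (g := v)).2 h1 |>.trans ?_
    rw [Units.smul_def, smul_smul]
    congr 1
    rw [← Units.mul_right_inj v, ← mul_assoc, Units.mul_inv, one_mul, hv, ← map_pow, ← map_mul]
    congr 1
    show _ = resR (hleW d) (h d) ^ n d * ((hua d).1.unit * ((hua d).2.unit ^ n d)⁻¹ : (Γ(X, O d ⊓ U'))ˣ).val
    have key : ∀ x y : (Γ(X, O d ⊓ U'))ˣ, (y : Γ(X, O d ⊓ U')) ^ n d * (x * (y ^ n d)⁻¹ : (Γ(X, O d ⊓ U'))ˣ).val = x.val :=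
      fun x y => by rw [← Units.val_pow_eq_pow_val, ← Units.val_mul, mul_comm x, mul_inv_cancel_left]
    · exact ((key (hua d).1.unit (hua d).2.unit).trans (IsUnit.unit_spec _)).symm
    · exact hleW d

end Groth.Agent.PicLift
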