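import Groth.Agent.Boundary.Birational

/-! Pullback of a module glued from units over opens meeting inside a fixed open. -/

noncomputable section

set_option linter.style.haveILetI false
set_option backward.isDefEq.respectTransparency false
set_option backward.isDefEq.respectTransparency.types false

universe u

open CategoryTheory CategoryTheory.Limits AlgebraicGeometry TopologicalSpace

namespace Groth.Agent.PicLift

open Groth.Agent.AModX Groth.Agent.InvX Groth.Agent.Boundary

variable {X Y : Scheme.{u}}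

/-- A module with frames on preimages, related by pullbacks of units, is a pullback. -/
theorem exists_pullback_iso_of_units (f : X ⟶ Y) {L : X.Modules} {D : Type u} (U : Y.Opens) (V : D → Y.Opens)
    (hcov : ∀ y, y ∈ U ∨ ∃ d, y ∈ V d) (hov' : ∀ d d', d ≠ d' → V d ⊓ V d' ≤ U)
    (t : ∀ d, (Γ(Y, V d ⊓ U))ˣ)
    (e₀ : Γ(L, f ⁻¹ᵁ U)) (hfr₀ : IsFrame e₀) (e : ∀ d, Γ(L, f ⁻¹ᵁ V d)) (he : ∀ d, IsFrame (e d))
    (ht : ∀ d, res L (f.preimage_mono (inf_le_left : V d ⊓ U ≤ V d)) (e d) =
      f.app (V d ⊓ U) (t d : Γ(Y, V d ⊓ U)) • res L (f.preimage_mono (inf_le_right : V d ⊓ U ≤ U)) e₀) :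
    ∃ N : Y.Modules, PicF.IsInvertible N ∧ Nonempty ((Scheme.Modules.pullback f).obj N ≅ L) := by
  classical
  let O : Option D → Y.Opens := fun i => i.elim U V
  let u : ∀ i, (Γ(Y, O i ⊓ U))ˣ := fun i => match i with
    | none => 1
    | some d => t d
  have hov : ∀ i j, i ≠ j → O i ⊓ O j ≤ U := fun i j hij => by
    match i, j with
    | none, _ => exact inf_le_left
    | some _, none => exact inf_le_right
    | some d, some d' => exact hov' d d' fun h => hij (congrArg some h)
  let gg : ∀ i j, (Γ(Y, O i ⊓ O j))ˣ := fun i j => if h : i = j then 1 else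
    Units.map (resR (le_inf inf_le_left (hov i j h) : O i ⊓ O j ≤ O i ⊓ U)).toMonoidHom (u i) *
      (Units.map (resR (le_inf inf_le_right (hov i j h) : O i ⊓ O j ≤ O j ⊓ U)).toMonoidHom (u j))⁻¹
  have hgg : ∀ (i j : Option D) (T : Y.Opens) (hi : T ≤ O i) (hj : T ≤ O j) (hT : T ≤ U),
      resR (le_inf hi hj) (gg i j : Γ(Y, O i ⊓ O j)) * resR (le_inf hj hT) (u j : Γ(Y, O j ⊓ U)) =
        resR (le_inf hi hT) (u i : Γ(Y, O i ⊓ U)) := fun i j T hi hj hT => by
    by_cases h : i = j
    · subst h; simp [gg]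
    · rw [show gg i j = _ from dif_neg h]
      rw [Units.val_mul, map_mul, mul_assoc]
      refine Eq.trans (congrArg (_ * ·) ?_) ((mul_one _).trans (resR_resR _ _ _))
      rw [← resR_resR (le_inf inf_le_right (hov i j h) : O i ⊓ O j ≤ O j ⊓ U) (le_inf hi hj)
        (u j : Γ(Y, O j ⊓ U)), ← map_mul]
      refine Eq.trans (congrArg _ ?_) (map_one _)
      exact Units.inv_mul (Units.map (resR (le_inf inf_le_right (hov i j h) : O i ⊓ O j ≤ O j ⊓ U)).toMonoidHom (u j))
  let cyc : H23.CocycleMod.Cocycle O :=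
    { g := gg
      trans := fun i j k T hi hj hk => by
        by_cases hij : i = j
        · subst hij; simp [gg]
        by_cases hjk : j = k
        · subst hjk; simp [gg]
        have hT : T ≤ U := (le_inf hi hj).trans (hov i j hij)
        apply (((u k).isUnit.map (resR (le_inf hk hT))).mul_left_inj).1
        rw [hgg i k T hi hk hT, mul_right_comm, hgg j k T hj hk hT, mul_comm, hgg i j T hi hj hT] }
  let N := H23.CocycleMod.mod cyc
  have hcov' : ∀ y, ∃ i, y ∈ O i := fun y => (hcov y).elim (fun h => ⟨none, h⟩) fun ⟨d, h⟩ => ⟨some d, h⟩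
  have hN : PicF.IsInvertible N := H23.CocycleMod.isInvertible cyc
    (eq_top_iff.2 fun y _ => Opens.mem_iSup.2 (hcov' y))
  let fr : ∀ i, Γ(N, O i) := fun i => H23.CocycleMod.frame cyc i
  let n : ∀ i, Γ((Scheme.Modules.pushforward f).obj L, O i) := fun i => match i with
    | none => e₀
    | some d => e d
  have hn : ∀ (i : Option D) (T : Y.Opens) (hi : T ≤ O i) (hT : T ≤ U),
      res L (f.preimage_mono hi) (show Γ(L, f ⁻¹ᵁ O i) from n i) =
        f.app T (resR (le_inf hi hT) (u i : Γ(Y, O i ⊓ U))) • res L (f.preimage_mono hT) e₀ := fun i T hi hT => by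
    match i with
    | none =>
      show res L _ e₀ = f.app T (resR _ 1) • _
      rw [map_one, map_one, one_smul]
    | some d =>
      show res L (f.preimage_mono hi) (e d) = f.app T (resR _ (t d).val) • _
      have h1 := congrArg (res L (f.preimage_mono (le_inf hi hT : T ≤ V d ⊓ U))) (ht d)
      rw [res_res, res_smul, res_res, resR_app f (le_inf hi hT : T ≤ V d ⊓ U)] at h1
      exact h1
  have hrel : ∀ (a b : Option D) (T : Y.Opens) (ha : T ≤ O a) (hb : T ≤ O b) (r : Γ(Y, T)),
      res N hb (fr b) = r • res N ha (fr a) →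
        res ((Scheme.Modules.pushforward f).obj L) hb (n b) = r • res ((Scheme.Modules.pushforward f).obj L) ha (n a) := by
    intro a b T ha hb r hr
    have h0 := congrArg (res N (le_inf hb ha : T ≤ O b ⊓ O a)) (H23.CocycleMod.res_frame cyc b a)
    rw [res_smul, res_res, res_res] at h0
    have hr' : r = resR (le_inf hb ha) (gg b a : Γ(Y, O b ⊓ O a)) :=
      (H23.CocycleMod.isFrame_frame cyc a).coord_unique ha (hr.symm.trans h0)
    rw [QCoh.pushforward_smul f T r]
    show res L (f.preimage_mono hb) _ = f.app T r • res L (f.preimage_mono ha) _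
    by_cases hab : a = b
    · subst hab
      rw [hr']
      simp [gg]
    · have hT : T ≤ U := (le_inf ha hb).trans (hov a b hab)
      rw [hn b T hb hT, hn a T ha hT, smul_smul, ← map_mul, hr', hgg b a T hb ha hT]
  let φ : N ⟶ (Scheme.Modules.pushforward f).obj L := InvX.ofFrames hcov' (H23.CocycleMod.isFrame_frame cyc) hrel
  let ψ := ((Scheme.Modules.pullbackPushforwardAdjunction f).homEquiv N L).symm φ
  have hnf : ∀ i, IsFrame (M := L) (U := f ⁻¹ᵁ O i) (n i) := fun i => match i with
    | none => hfr₀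
    | some d => he d
  refine ⟨N, hN, ?_⟩
  let Oi : ULift.{u} (Option D) → X.Opens := fun i => f ⁻¹ᵁ O i.down
  haveI : IsIso ψ := isIso_of_frames ψ Oi (fun x => let ⟨i, hi⟩ := hcov' (f x); ⟨⟨i⟩, hi⟩)
    (fun i => pullElt f (fr i.down)) (fun i => isFrame_pullElt f (H23.CocycleMod.isFrame_frame cyc i.down)) fun i => by
      rw [pullback_adjunct_pullElt]
      show IsFrame (M := L) (φ.app (O i.down) (H23.CocycleMod.frame cyc i.down))
      rw [InvX.ofFrames_app]
      exact hnf i.down
  exact ⟨asIso ψ⟩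

end Groth.Agent.PicLift
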